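import Mathlib

/-!
# Finite presentation of modules relative to a base ring

Independence of the chosen presentation, and localisation.
-/

namespace Groth.Agent.RelFP

/-- Finite presentation over a quotient by a finitely generated ideal. -/
theorem fp_comp_surjective {S S' A N : Type*} [CommRing S] [CommRing S'] [CommRing A]
    [AddCommGroup N] [Module A N] (π : S →+* S') (hπ : Function.Surjective π)
    (hker : (RingHom.ker π).FG) (ψ : S' →+* A) :
    @Module.FinitePresentation S N _ _ (Module.compHom N (ψ.comp π)) ↔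
      @Module.FinitePresentation S' N _ _ (Module.compHom N ψ) := by
  letI : Algebra S S' := π.toAlgebra
  letI : Module S N := Module.compHom N (ψ.comp π)
  letI : Module S' N := Module.compHom N ψ
  haveI : IsScalarTower S S' N := IsScalarTower.of_algebraMap_smul fun _ _ => rfl
  haveI : Module.FinitePresentation S S' :=
    Module.finitePresentation_of_surjective (Algebra.linearMap S S') hπ hker
  refine ⟨fun h => ?_, fun h => Module.FinitePresentation.trans S N S'⟩
  haveI : Module.Finite S' N := Module.Finite.of_restrictScalars_finite S S' N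
  obtain ⟨n, q, hq⟩ := Module.Finite.exists_fin' S' N
  have hk : ((LinearMap.ker q).restrictScalars S).FG := by
    have := Module.FinitePresentation.fg_ker (q.restrictScalars S) hq
    simpa [LinearMap.ker_restrictScalars] using this
  exact Module.finitePresentation_of_surjective q hq (Submodule.FG.of_restrictScalars S hk)

variable {R A N : Type*} [CommRing R] [CommRing A] [Algebra R A] [AddCommGroup N] [Module A N]

private theorem poly_aux {m k : Type*} [Finite m] [Finite k] (ψ₁ : MvPolynomial m R →ₐ[R] A)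
    (hψ₁ : Function.Surjective ψ₁) (ψ₂ : MvPolynomial k R →ₐ[R] A) :
    @Module.FinitePresentation (MvPolynomial (m ⊕ k) R) N _ _
        (Module.compHom N (MvPolynomial.aeval (R := R)
          (Sum.elim (fun i => ψ₁ (.X i)) (fun j => ψ₂ (.X j)))).toRingHom) ↔
      @Module.FinitePresentation (MvPolynomial m R) N _ _ (Module.compHom N ψ₁.toRingHom) := by
  choose p hp using fun j => hψ₁ (ψ₂ (.X j))
  let π : MvPolynomial (m ⊕ k) R →ₐ[R] MvPolynomial m R :=
    MvPolynomial.aeval (Sum.elim MvPolynomial.X p)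
  have hπ : Function.Surjective π := fun x => ⟨MvPolynomial.rename Sum.inl x, by
    simp [π, MvPolynomial.bind₁_rename, MvPolynomial.bind₁_X_left]⟩
  have hcomp : (MvPolynomial.aeval (R := R)
      (Sum.elim (fun i => ψ₁ (.X i)) (fun j => ψ₂ (.X j)))) = ψ₁.comp π :=
    MvPolynomial.algHom_ext fun i => by
      rcases i with i | j <;> simp [π, hp]
  rw [hcomp]
  exact fp_comp_surjective π.toRingHom hπ
    (Algebra.FinitePresentation.ker_fG_of_surjective π hπ) ψ₁.toRingHom

private theorem poly_indep {m k : Type*} [Finite m] [Finite k] (ψ₁ : MvPolynomial m R →ₐ[R] A)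
    (hψ₁ : Function.Surjective ψ₁) (ψ₂ : MvPolynomial k R →ₐ[R] A) (hψ₂ : Function.Surjective ψ₂) :
    @Module.FinitePresentation (MvPolynomial m R) N _ _ (Module.compHom N ψ₁.toRingHom) ↔
      @Module.FinitePresentation (MvPolynomial k R) N _ _ (Module.compHom N ψ₂.toRingHom) := by
  rw [← poly_aux ψ₁ hψ₁ ψ₂, ← poly_aux ψ₂ hψ₂ ψ₁]
  let e := MvPolynomial.renameEquiv R (Equiv.sumComm m k)
  have he : (MvPolynomial.aeval (R := R) (Sum.elim (fun i => ψ₁ (.X i)) (fun j => ψ₂ (.X j)))) =
      (MvPolynomial.aeval (R := R) (Sum.elim (fun j => ψ₂ (.X j)) (fun i => ψ₁ (.X i)))).comp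
        e.toAlgHom :=
    MvPolynomial.algHom_ext fun i => by rcases i with i | j <;> simp [e]
  rw [he]
  exact fp_comp_surjective e.toAlgHom.toRingHom e.surjective
    (Algebra.FinitePresentation.ker_fG_of_surjective e.toAlgHom e.surjective) _

/-- Being finitely presented does not depend on the chosen finitely presented algebra mapping
onto `A`. -/
theorem fp_indep {S₁ S₂ : Type*} [CommRing S₁] [Algebra R S₁] [Algebra.FinitePresentation R S₁]
    [CommRing S₂] [Algebra R S₂] [Algebra.FinitePresentation R S₂]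
    (ψ₁ : S₁ →ₐ[R] A) (hψ₁ : Function.Surjective ψ₁) (ψ₂ : S₂ →ₐ[R] A) (hψ₂ : Function.Surjective ψ₂) :
    @Module.FinitePresentation S₁ N _ _ (Module.compHom N ψ₁.toRingHom) ↔
      @Module.FinitePresentation S₂ N _ _ (Module.compHom N ψ₂.toRingHom) := by
  obtain ⟨n₁, π₁, hπ₁, hk₁⟩ := ‹Algebra.FinitePresentation R S₁›.out
  obtain ⟨n₂, π₂, hπ₂, hk₂⟩ := ‹Algebra.FinitePresentation R S₂›.out
  rw [← fp_comp_surjective π₁.toRingHom hπ₁ hk₁ ψ₁.toRingHom,
    ← fp_comp_surjective π₂.toRingHom hπ₂ hk₂ ψ₂.toRingHom]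
  exact poly_indep (ψ₁.comp π₁) (hψ₁.comp hπ₁) (ψ₂.comp π₂) (hψ₂.comp hπ₂)

/-- Finite presentation of modules is local on the spectrum. -/
theorem fp_of_localizationSpan {P : Type*} [CommRing P] {N : Type*} [AddCommGroup N] [Module P N]
    {s : Set P} (hs : Ideal.span s = ⊤)
    {Np : s → Type*} [∀ g, AddCommGroup (Np g)] [∀ g, Module P (Np g)]
    {Pp : s → Type*} [∀ g, CommRing (Pp g)] [∀ g, Algebra P (Pp g)]
    [∀ g : s, IsLocalization.Away g.1 (Pp g)]
    [∀ g, Module (Pp g) (Np g)] [∀ g, IsScalarTower P (Pp g) (Np g)]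
    (f : ∀ g, N →ₗ[P] Np g) [∀ g : s, IsLocalizedModule.Away g.1 (f g)]
    (H : ∀ g, Module.FinitePresentation (Pp g) (Np g)) : Module.FinitePresentation P N := by
  haveI : Module.Finite P N := Module.Finite.of_localizationSpan' (Rₚ := Pp) s hs f fun g => inferInstance
  obtain ⟨n, q, hq⟩ := Module.Finite.exists_fin' P N
  refine Module.finitePresentation_of_surjective q hq ((Module.Finite.iff_fg).1 ?_)
  let Fp (g : s) : (Fin n → P) →ₗ[P] (Fin n → Pp g) :=
    LinearMap.pi fun i => (Algebra.linearMap P (Pp g)).comp (LinearMap.proj i)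
  haveI (g : s) : IsLocalizedModule (Submonoid.powers g.1) (Fp g) := inferInstance
  refine Module.Finite.of_localizationSpan' (Rₚ := Pp) s hs
    (fun g => (LinearMap.ker q).toLocalized' (Pp g) (Submonoid.powers g.1) (Fp g)) fun g => ?_
  refine (Module.Finite.iff_fg).2 ?_
  rw [LinearMap.localized'_ker_eq_ker_localizedMap (Pp g) (Submonoid.powers g.1) (Fp g) (f g) q]
  apply Module.FinitePresentation.fg_ker
  intro y
  obtain ⟨⟨x, t⟩, rfl⟩ := IsLocalizedModule.mk'_surjective (Submonoid.powers g.1) (f g) y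
  obtain ⟨z, rfl⟩ := hq x
  exact ⟨IsLocalizedModule.mk' (Fp g) z t, by simp [IsLocalizedModule.map_mk']⟩

end Groth.Agent.RelFP
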